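import Mathlib
import Cfsg.Agent.Base
import Cfsg.Agent.Lib.Core.Permutable
import Cfsg.Agent.Lib.EFS.Gen0

section
set_option autoImplicit false
set_option linter.unusedSectionVars false

namespace H83F

open Subgroup H69
open scoped commutatorElement

variable {G : Type*} [Group G] [Finite G] {D : Set (Subgroup G)} {p q : ℕ}

/-- a point centralizes every `p`-subgroup containing it -/
theorem A0_cent (h : Pts p D)
    (one : ∀ A ∈ D, ∀ B ∈ D, IsPGroup p (A ⊔ B : Subgroup G) → A = B)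
    {B S : Subgroup G} (hB : B ∈ D) (hS : IsPGroup p S) (hBS : B ≤ S) : B ≤ 𝐂(S) := by
  have : Fact p.Prime := ⟨h.prime⟩
  have hn : S ≤ 𝐍(B) := by
    intro s hs
    rw [← cj_eq_self_iff]
    exact one _ (h.inv B hB s) _ hB (hS.to_le (sup_le (cj_le_of_mem hBS hs) hBS))
  exact h.le_of_inf_ne_bot hB (inf_centralizer_ne_bot (h.isPGroup hB) hS hn (h.ne_bot hB))

theorem A0_top (h : Pts p D)
    (one : ∀ A ∈ D, ∀ B ∈ D, IsPGroup p (A ⊔ B : Subgroup G) → A = B)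
    (hs : Group.IsSolvable G) (top : ∀ L : Subgroup G, (∀ B ∈ D, B ≤ L) → L = ⊤)
    {A : Subgroup G} (hA : A ∈ D) : Cfsg.pPrimeCore p G ⊔ A = ⊤ := by
  have : Fact p.Prime := ⟨h.prime⟩
  set K := Cfsg.pPrimeCore p G with hK
  set f := QuotientGroup.mk' K with hf
  set O := Cfsg.pCore p (G ⧸ K) with hO
  have hfs : Function.Surjective f := QuotientGroup.mk'_surjective K
  have hCO : 𝐂(O) ≤ O := H1.centralizer_pCore_le_of_isSolvable H1.pPrimeCore_quotient_pPrimeCore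
  have hOS : ∀ S : Subgroup G, IsSylowIn p S ⊤ → O ≤ S.map f := by
    intro S hS
    have h1 := hS.map f
    rw [map_top_of_surjective f hfs] at h1
    exact h1.le_of_le_normalizer H1.isPGroup_pCore le_top
      (le_top.trans (normal_iff_top_le_normalizer.1 inferInstance))
  have hcS : ∀ B ∈ D, ∀ S : Subgroup G, IsSylowIn p S ⊤ → B ≤ S → B.map f ≤ 𝐂(O) := by
    intro B hB S hS hBS
    refine le_trans ?_ (centralizer_anti (hOS S hS))
    apply le_centralizer_of_commutator_eq_bot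
    rw [← map_commutator, commutator_eq_bot_of_le_centralizer (A0_cent h one hB hS.isP hBS), Subgroup.map_bot]
  have hOtop : O.comap f = ⊤ := by
    apply top
    intro B hB
    obtain ⟨S, hS, hBS⟩ := exists_isSylowIn_le (h.isPGroup hB) (le_top : B ≤ ⊤)
    exact map_le_iff_le_comap.1 ((hcS B hB S hS hBS).trans hCO)
  have hO' : ∀ y : G, f y ∈ O := fun y => by
    have : y ∈ O.comap f := hOtop ▸ mem_top y
    exact this
  obtain ⟨S, hS, hAS⟩ := exists_isSylowIn_le (h.isPGroup hA) (le_top : A ≤ ⊤)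
  have hAc : O ≤ 𝐂(A.map f) := le_centralizer_iff.1 (hcS A hA S hS hAS)
  apply top
  intro B hB
  obtain ⟨g, -, hg⟩ := hS.exists_cj_le (h.isPGroup hB) le_top
  have e : B ^ᶜ g = A := one _ (h.inv B hB g) _ hA (hS.isP.to_le (sup_le hg hAS))
  have e2 : B.map f = A.map f := by
    rw [cj_eq_iff.1 e, map_cj]
    exact cj_eq_of_mem_centralizer (hAc (hO' _))
  have e3 : B ≤ (A.map f).comap f := map_le_iff_le_comap.1 e2.le
  rw [comap_map_eq, hf, QuotientGroup.ker_mk', sup_comm] at e3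
  exact e3

theorem Pts.sup_pPrime (h : Pts p D)
    (one : ∀ A ∈ D, ∀ B ∈ D, IsPGroup p (A ⊔ B : Subgroup G) → A = B)
    {X A : Subgroup G} (hs : Group.IsSolvable X) (hX : gen D X = X) (hA : A ∈ D) (hAX : A ≤ X) :
    ∃ K : Subgroup G, K ≤ X ∧ X ≤ 𝐍(K) ∧ (Nat.card K).Coprime p ∧ X ≤ K ⊔ A := by
  let D' : Set (Subgroup X) := {B | B.map X.subtype ∈ D}
  have h' : Pts p D' := by
    refine ⟨h.prime, h.odd, fun B hB => ?_, fun B hB g => ?_⟩
    · rw [← card_map_subtype]; exact h.card _ hB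
    · show (B ^ᶜ g).map X.subtype ∈ D
      rw [map_subtype_cj]
      exact h.inv _ hB _
  have one' : ∀ A ∈ D', ∀ B ∈ D', IsPGroup p (A ⊔ B : Subgroup X) → A = B := by
    intro A hA B hB hp
    rw [← H69.map_subtype_inj]
    apply one _ hA _ hB
    rw [← Subgroup.map_sup]
    exact isPGroup_map_subtype_iff.2 hp
  have hsub : ∀ B ∈ D, B ≤ X → B.subgroupOf X ∈ D' := by
    intro B hB hBX
    show (B.subgroupOf X).map X.subtype ∈ D
    rwa [subgroupOf_map_subtype, inf_eq_left.2 hBX]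
  have top' : ∀ L : Subgroup X, (∀ B ∈ D', B ≤ L) → L = ⊤ := by
    intro L hL
    rw [← map_subtype_eq_self_iff]
    refine le_antisymm (map_subtype_le _) (hX.symm.le.trans (gen_le_iff.2 fun B hB hBX => ?_))
    exact (subgroupOf_le_iff hBX).1 (hL _ (hsub B hB hBX))
  have key := A0_top h' one' hs top' (hsub A hA hAX)
  refine ⟨(Cfsg.pPrimeCore p X).map X.subtype, map_subtype_le _,
    le_normalizer.trans (H1.normalizer_le_normalizer_map_subtype_pPrimeCore X),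
    H1.coprime_card_map_subtype_pPrimeCore X, ?_⟩
  have := congrArg (Subgroup.map X.subtype) key
  rw [Subgroup.map_sup, subgroupOf_map_subtype, inf_eq_left.2 hAX, map_subtype_top] at this
  exact this.ge

end H83F
end

section
set_option autoImplicit false
set_option linter.unusedSectionVars false

namespace H83F.A1a

open Subgroup H69
open scoped commutatorElement

variable {G : Type*} [Group G] [Finite G] {D : Set (Subgroup G)} {p : ℕ}

theorem cent {A P : Subgroup G} (hn : A ≤ 𝐍(P)) (hd : A ⊓ P = ⊥) {x : G} (hx : x ∈ P)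
    (hN : x ∈ 𝐍(A)) : x ∈ 𝐂(A) := fun a ha => by
  have : x * a * x⁻¹ * a⁻¹ ∈ A ⊓ P := mem_inf.2 ⟨mul_mem (conj_mem_of_mem_normalizer hN ha) (inv_mem ha), by
    rw [mul_assoc, mul_assoc, ← mul_assoc a]
    exact mul_mem hx (conj_mem_of_mem_normalizer (hn ha) (inv_mem hx))⟩
  rw [hd, mem_bot, mul_inv_eq_one, mul_inv_eq_iff_eq_mul] at this
  exact this.symm

theorem disj (h : Pts p D) {A K : Subgroup G} (hA : A ∈ D) (hK : (Nat.card K).Coprime p) :
    A ⊓ K = ⊥ := H2.inf_eq_bot_of_coprime_card (by rw [h.card A hA]; exact hK.symm)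

theorem syl (h : Pts p D) {A K X : Subgroup G} (hA : A ∈ D) (hn : A ≤ 𝐍(K))
    (hK : (Nat.card K).Coprime p) (hAX : A ≤ X) (hX : X ≤ K ⊔ A) : IsSylowIn p A X := by
  have : Fact p.Prime := ⟨h.prime⟩
  refine ⟨hAX, h.isPGroup hA, fun R h1 h2 h3 => ?_⟩
  obtain ⟨k, hk⟩ := h3.exists_card_eq
  have e := dedekind_right hn h1
  rwa [H2.inf_eq_bot_of_coprime_card (A := K) (by rw [hk]; exact hK.pow_right k), sup_bot_eq,
    inf_eq_right.2 (h2.trans (hX.trans (sup_comm K A).le))] at e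

theorem step (h : Pts p D) {A P : Subgroup G} (hA : A ∈ D) (hn : A ≤ 𝐍(P))
    (hK : (Nat.card P).Coprime p) {r : ℕ} (hr : r.Prime) (hP : IsPGroup r P) (nc : ¬ P ≤ 𝐂(A)) :
    ∃ B ∈ D, A ≠ B ∧ ∃ a, Nat.card (A ⊔ B : Subgroup G) = r ^ (a + 1) * p := by
  have : Fact r.Prime := ⟨hr⟩
  obtain ⟨x, hx, xc⟩ := SetLike.not_le_iff_exists.1 nc
  have hd := disj h hA hK
  have ne : A ≠ A ^ᶜ x := fun e => xc (cent hn hd hx (cj_eq_self_iff.1 e.symm))
  refine ⟨_, h.inv A hA x, ne, ?_⟩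
  have hJ : A ⊔ A ^ᶜ x ≤ A ⊔ P := sup_le le_sup_left fun y hy => by
    obtain ⟨a, ha, rfl⟩ := mem_cj'.1 hy
    exact mul_mem (mul_mem (mem_sup_right hx) (mem_sup_left ha)) (mem_sup_right (inv_mem hx))
  have e := dedekind_right (C := A ⊔ A ^ᶜ x) hn le_sup_left
  rw [inf_eq_right.2 hJ] at e
  obtain ⟨k, hk⟩ := (hP.to_inf_left : IsPGroup r (P ⊓ (A ⊔ A ^ᶜ x) : Subgroup G)).exists_card_eq
  obtain _ | k := k
  · rw [card_eq_one.1 hk, sup_bot_eq] at e
    exact (ne (h.eq_of_le (h.inv A hA x) hA (le_sup_right.trans e.le)).symm).elim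
  refine ⟨k, ?_⟩
  rw [e, sup_comm, H2.card_sup_of_le_normalizer
    (H69.le_normalizer_inf hn (H69.le_normalizer_of_le le_sup_left))
    (le_bot_iff.1 (hd ▸ inf_le_inf_left A inf_le_left)), hk, h.card A hA]

end H83F.A1a
end

section
set_option autoImplicit false
set_option linter.unusedSectionVars false

namespace H83F

open Subgroup H69
open scoped commutatorElement

variable {G : Type*} [Group G] [Finite G] {D : Set (Subgroup G)} {p q : ℕ} {F : Type*} [Group F] [Finite F]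

theorem exists_q (h : Pts p D) (top : sSup D = ⊤) (hG : ¬ IsMulCommutative G) (sF : Group.IsSolvable F)
    (iso : ∀ A ∈ D, ∀ B ∈ D, A ≠ B → Nonempty (↥(A ⊔ B) ≃* F)) : ∃ q : ℕ, FS p q D F := by
  have : Fact p.Prime := ⟨h.prime⟩
  obtain ⟨A, hA, B, hB, hAB⟩ : ∃ A ∈ D, ∃ B ∈ D, ¬ A ≤ 𝐂(B) := by
    by_contra k
    push Not at k
    have k1 : (⊤ : Subgroup G) ≤ 𝐂((⊤ : Subgroup G)) := by
      nth_rw 1 [← top]
      exact sSup_le fun B hB => le_centralizer_iff.1 (top ▸ sSup_le fun A hA => k A hA B hB)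
    exact hG ⟨⟨fun a b => k1 (mem_top b) a (mem_top a)⟩⟩
  have ne : A ≠ B := fun e => hAB (e ▸ h.le_cent_self hA)
  obtain ⟨e⟩ := iso A hA B hB ne
  have nc : ∀ A' ∈ D, ∀ B' ∈ D, A' ≤ 𝐂(B') → A' = B' := fun A' hA' B' hB' k => by
    by_contra n
    obtain ⟨e'⟩ := iso A' hA' B' hB' n
    have k1 : A' ⊔ B' ≤ 𝐂(A' ⊔ B') := by
      rw [H69.centralizer_sup]
      exact le_inf (sup_le (h.le_cent_self hA') (le_centralizer_iff.1 k))
        (sup_le k (h.le_cent_self hB'))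
    have k2 : ∀ x y : F, x * y = y * x := fun x y => e'.symm.injective (by
      rw [map_mul, map_mul]; exact Subtype.ext (k1 (e'.symm y).2 _ (e'.symm x).2))
    exact hAB fun a ha b hb => congrArg Subtype.val (e.injective
      (a₁ := ⟨b, mem_sup_right hb⟩ * ⟨a, mem_sup_left ha⟩)
      (a₂ := ⟨a, mem_sup_left ha⟩ * ⟨b, mem_sup_right hb⟩) (by rw [map_mul, map_mul, k2]))
  have nn : ∀ A' ∈ D, ∀ B' ∈ D, A' ≤ 𝐍(B') → A' = B' := fun A' hA' B' hB' k =>
    (nc B' hB' A' hA' (h.le_of_inf_ne_bot hB'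
      (inf_centralizer_ne_bot (h.isPGroup hB') (h.isPGroup hA') k (h.ne_bot hB')))).symm
  have one : ∀ A ∈ D, ∀ B ∈ D, IsPGroup p (A ⊔ B : Subgroup G) → A = B := fun A hA B hB hp => by
    by_contra n
    obtain ⟨x, hx, xn⟩ := SetLike.exists_of_lt (lt_inf_normalizer_of_lt hp
      (R := (A ⊔ B) ⊓ 𝐍(A)) (lt_of_le_of_ne inf_le_left fun e =>
        n (nn B hB A hA (le_sup_right.trans (e.ge.trans inf_le_right))).symm))
    exact xn ⟨hx.1, cj_eq_self_iff.1 (nn _ (h.inv A hA x) A hA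
      ((cj_le_of_mem_normalizer (le_inf le_sup_left le_normalizer) hx.2).trans inf_le_right))⟩
  obtain ⟨K, h1, h2, h3, h4⟩ := h.sup_pPrime one (X := A ⊔ B)
    (Group.isSolvable_of_isSolvable_injective (f := e.toMonoidHom) e.injective) (gen_pair hA hB) hA
    le_sup_left
  have hn : A ≤ 𝐍(K) := le_sup_left.trans h2
  have h5 : ¬ K ≤ 𝐂(A) := fun k =>
    ne (nc B hB A hA (le_sup_right.trans (h4.trans (sup_le k (h.le_cent_self hA))))).symm
  obtain ⟨r, hr, P, hP, hAP, nP⟩ : ∃ r : ℕ, r.Prime ∧ ∃ P, H68.SylowIn r P K ∧ A ≤ 𝐍(P) ∧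
      ¬ P ≤ 𝐂(A) := by
    by_contra k
    push Not at k
    exact h5 (H2.le_of_forall_invariant_sylowIn_le hn (by rw [h.card A hA]; exact h3.symm)
      (Or.inl (h.isSolvable hA)) fun r hr P hP hAP => k r hr.out P hP hAP)
  have cP : (Nat.card P).Coprime p := h3.coprime_dvd_left (card_dvd_of_le hP.le)
  obtain ⟨B', hB', ne', a, ha⟩ := A1a.step h hA hAP cP hr hP.isPGroup nP
  obtain ⟨e'⟩ := iso A hA B' hB' ne'
  rw [Nat.card_congr e'.toEquiv] at ha
  refine ⟨r, h, hr, fun e2 => nP ?_, ⟨_, ha⟩, sF, iso⟩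
  · subst e2
    obtain ⟨k, hk⟩ := hP.isPGroup.exists_card_eq
    rw [card_eq_one.1 (Nat.Coprime.eq_one_of_dvd (cP.pow_right k) hk.dvd)]
    exact bot_le

end H83F
end

section
set_option autoImplicit false
set_option linter.unusedSectionVars false

namespace H83F

open Subgroup H69
open scoped commutatorElement

variable {G : Type*} [Group G] [Finite G] {D : Set (Subgroup G)} {p q : ℕ} {F : Type*} [Group F] [Finite F]

theorem FS.one (h : FS p q D F) : ∀ A ∈ D, ∀ B ∈ D, IsPGroup p (A ⊔ B : Subgroup G) → A = B := by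
  intro A hA B hB hp
  have : Fact p.Prime := ⟨h.prime⟩
  by_contra n
  obtain ⟨e⟩ := h.iso A hA B hB n
  obtain ⟨k, hk⟩ := hp.exists_card_eq
  obtain ⟨a, ha⟩ := h.cardF
  rw [← Nat.card_congr e.toEquiv] at ha
  obtain _ | a := a
  · rw [pow_zero, one_mul, ← h.card B hB] at ha
    exact n (h.toPts.eq_of_le hA hB (le_sup_left.trans (eq_of_le_of_card_ge le_sup_right ha.le).ge))
  · exact h.ne ((Nat.prime_dvd_prime_iff_eq h.qprime h.prime).1 (h.qprime.dvd_of_dvd_pow (n := k)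
      (by rw [← hk, ha, pow_succ]; exact (dvd_mul_left _ _).mul_right _))).symm

theorem FS.comm_isPGroup (h : FS p q D F) {A K : Subgroup G} (hA : A ∈ D) (hn : A ≤ 𝐍(K))
    (hK : (Nat.card K).Coprime p) : IsPGroup q (⁅K, A⁆ : Subgroup G) := by
  have : Fact q.Prime := ⟨h.qprime⟩
  have cop : (Nat.card A).Coprime (Nat.card K) := by rw [h.card A hA]; exact hK.symm
  have sol := h.toPts.isSolvable hA
  obtain ⟨P, hP, hAP⟩ := H2.exists_invariant_sylowIn hn cop (Or.inl sol) q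
  have ci : (P.relIndex K).Coprime ((K ⊓ 𝐂(A)).relIndex K) := by
    refine Nat.coprime_of_dvd fun r hr h1 h2 => ?_
    have : Fact r.Prime := ⟨hr⟩
    by_cases e : r = q
    · subst e; exact hP.not_dvd_relIndex h1
    obtain ⟨R, hR, hAR⟩ := H2.exists_invariant_sylowIn hn cop (Or.inl sol) r
    refine hR.not_dvd_relIndex (h2.trans (relIndex_dvd_of_le_left K (le_inf hR.le ?_)))
    by_contra nc
    obtain ⟨B, hB, ne, a, ha⟩ := A1a.step h.toPts hA hAR
      (hK.coprime_dvd_left (card_dvd_of_le hR.le)) hr hR.isPGroup nc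
    obtain ⟨f⟩ := h.iso A hA B hB ne
    obtain ⟨b, hb⟩ := h.cardF
    rw [Nat.card_congr f.toEquiv, hb] at ha
    exact e ((Nat.prime_dvd_prime_iff_eq hr h.qprime).1 (hr.dvd_of_dvd_pow (n := b) (by
      rw [Nat.eq_of_mul_eq_mul_right h.prime.pos ha, pow_succ]; exact dvd_mul_left _ _)))
  refine hP.isPGroup.to_le (commutator_le.2 fun k hk a ha => ?_)
  obtain ⟨x, hx, c, hc, rfl⟩ := H1.exists_mul_eq_of_coprime_relIndex hP.le inf_le_left ci hk
  have e : ⁅x * c, a⁆ = x * (a * x⁻¹ * a⁻¹) := by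
    rw [commutatorElement_def, mul_assoc x, ← hc.2 a ha]; group
  rw [e]
  exact mul_mem hx (conj_mem_of_mem_normalizer (hAP ha) (inv_mem hx))

theorem FS.loc12 (h : FS p q D F) {X A : Subgroup G} (hs : Group.IsSolvable X) (hX : gen D X = X) (hA : A ∈ D)
    (hAX : A ≤ X) : IsPGroup q (⁅X, X⁆ : Subgroup G) ∧ X ≤ ⁅X, X⁆ ⊔ A ∧ ⁅⁅X, X⁆, A⁆ = ⁅X, X⁆ := by
  have : Fact p.Prime := ⟨h.prime⟩
  obtain ⟨K, h1, h2, h3, h4⟩ := h.toPts.sup_pPrime h.one hs hX hA hAX
  have hn : A ≤ 𝐍(K) := hAX.trans h2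
  have syl := A1a.syl h.toPts hA hn h3 hAX h4
  have h5 : X ≤ ncl A K := hX.symm.le.trans (gen_le_iff.2 fun B hB hBX => by
    obtain ⟨g, hg, k⟩ := syl.exists_le_cj (h.toPts.isPGroup hB) hBX
    exact k.trans (cj_le_of_mem_normalizer (le_ncl A K)
      (sup_le (le_normalizer_ncl A K) (H69.le_normalizer_of_le (le_ncl A K)) (h4 hg))))
  have h6 : K = ⁅K, A⁆ := by
    have e := dedekind_left (A := ⁅K, A⁆) (B := A) (C := K) (normalizer_commutator_ge_right K A)
      (commutator_le_left_of_le_normalizer hn)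
    rwa [A1a.disj h.toPts hA h3, sup_bot_eq, inf_eq_right.2 (h1.trans (h5.trans (by
      rw [ncl_eq_sup_commutator, sup_comm, commutator_comm])))] at e
  have h7 : ⁅X, X⁆ = K := le_antisymm ((commutator_mono h4 h4).trans
    (commutator_sup_le_left le_normalizer hn
      (commutator_le_left_of_le_normalizer (sup_le le_normalizer hn))
      (commutator_sup_le_right le_normalizer hn (commutator_le_right_of_le_normalizer hn)
        (by rw [commutator_eq_bot_of_le_centralizer (h.toPts.le_cent_self hA)]; exact bot_le))))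
    (h6.le.trans (commutator_mono h1 hAX))
  rw [h7]
  exact ⟨h6 ▸ h.comm_isPGroup hA hn h3, h4, h6.symm⟩

end H83F
end

section
set_option autoImplicit false
set_option linter.unusedSectionVars false

namespace H83F

open Subgroup H69
open scoped commutatorElement

variable {G : Type*} [Group G] [Finite G] {D : Set (Subgroup G)} {p q : ℕ} {F : Type*} [Group F] [Finite F]

theorem A3.comm_of {J : Subgroup G} (e : J ≃* F) (h : IsMulCommutative (commutator F)) :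
    IsMulCommutative (⁅J, J⁆ : Subgroup G) := by
  have m : ∀ x : J, (x : G) ∈ ⁅J, J⁆ → e x ∈ commutator F := fun x hx => by
    rw [← Subgroup.map_subtype_commutator] at hx
    exact commutator_mono le_top le_top (Subgroup.map_commutator ⊤ ⊤ e.toMonoidHom ▸
      mem_map_of_mem e.toMonoidHom ((mem_map_iff_mem J.subtype_injective).1 hx))
  refine ⟨⟨fun x y => Subtype.ext ?_⟩⟩
  have := congrArg Subtype.val (h.1.1 ⟨_, m ⟨x, comm_le J x.2⟩ x.2⟩ ⟨_, m ⟨y, comm_le J y.2⟩ y.2⟩)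
  change e _ * e _ = e _ * e _ at this
  rw [← map_mul, ← map_mul] at this
  exact congrArg (fun z : J => (z : G)) (e.injective this)

theorem A3.step (h : FS p q D F) (hF : IsMulCommutative (commutator F)) {X A : Subgroup G}
    (hs : Group.IsSolvable X) (hA : A ∈ D) (hAX : A ≤ X) (hd : A ⊓ ⁅X, X⁆ = ⊥) {a x : G} (ha : a ∈ A)
    (h2 : zpowers (a * a) = A) (hx : x ∈ ⁅X, X⁆) :
    ∃ r ∈ ⁅X, X⁆, a * (x * a * x⁻¹) = r * (a * a) * r⁻¹ := by
  have m : x * a * x⁻¹ * a⁻¹ ∈ ⁅X, X⁆ := commutator_mem_commutator (comm_le X hx) (hAX ha)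
  by_cases e : A = A ^ᶜ x
  · have : x * a * x⁻¹ * a⁻¹ ∈ A ⊓ ⁅X, X⁆ := ⟨A.mul_mem (e.ge (cj_mem x ha)) (inv_mem ha), m⟩
    rw [hd, mem_bot, mul_inv_eq_one] at this
    exact ⟨1, one_mem _, by rw [this, one_mul, inv_one, mul_one]⟩
  have hB := h.inv A hA x
  obtain ⟨f⟩ := h.iso A hA _ hB e
  have JX : A ⊔ A ^ᶜ x ≤ X := sup_le hAX (cj_le_of_mem hAX (comm_le X hx))
  have sJ : Group.IsSolvable (A ⊔ A ^ᶜ x : Subgroup G) :=
    Group.isSolvable_of_isSolvable_injective (inclusion_injective JX)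
  obtain ⟨k1, k2, k3⟩ := h.loc12 sJ (gen_pair hA hB) hA le_sup_left
  have nR : A ≤ _ := le_sup_left.trans (le_normalizer_comm (A ⊔ A ^ᶜ x))
  have RQ := commutator_mono JX JX
  have c := A3.comm_of f hF
  have mJ : x * a * x⁻¹ * a⁻¹ ∈ A ⊔ A ^ᶜ x :=
    mul_mem (mem_sup_right (cj_mem x ha)) (mem_sup_left (inv_mem ha))
  set R := ⁅A ⊔ A ^ᶜ x, A ⊔ A ^ᶜ x⁆ with hR
  have : Fact q.Prime := ⟨h.qprime⟩
  have z := H2.commutator_inf_centralizer_eq_bot c nR (by
    obtain ⟨n, hn⟩ := IsPGroup.iff_card.1 k1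
    rw [hn, h.card A hA]
    exact ((Nat.coprime_primes h.prime h.qprime).2 h.ne).pow_right n)
  rw [k3] at z
  have aa := nR (mul_mem ha ha)
  let g : R → R := fun r => ⟨r * (a * a) * (r : G)⁻¹ * (a * a)⁻¹, by
    rw [mul_assoc, mul_assoc, ← mul_assoc (a * a)]
    exact mul_mem r.2 (conj_mem_of_mem_normalizer aa (inv_mem r.2))⟩
  have gi : Function.Injective g := fun r r' e => by
    have e1 : (r : G) * (a * a) * (r : G)⁻¹ = r' * (a * a) * (r' : G)⁻¹ :=
      mul_right_cancel (congrArg Subtype.val e)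
    have : (r' : G)⁻¹ * r ∈ R ⊓ 𝐂(A) := ⟨R.mul_mem (inv_mem r'.2) r.2, by
      rw [← h2]
      refine le_centralizer_singleton_iff.1 (zpowers_le.2 (mem_centralizer_singleton_iff.2 ?_))
      calc a * a * ((r' : G)⁻¹ * r) = (r' : G)⁻¹ * (r' * (a * a) * (r' : G)⁻¹) * r := by group
        _ = _ := by rw [← e1]; group⟩
    rw [z, mem_bot, inv_mul_eq_one] at this
    exact Subtype.ext this.symm
  have mR : x * a * x⁻¹ * a⁻¹ ∈ R := by
    have : x * a * x⁻¹ * a⁻¹ ∈ (R ⊔ A) ⊓ ⁅X, X⁆ := ⟨k2 mJ, m⟩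
    rwa [dedekind_left nR RQ, hd, sup_bot_eq] at this
  obtain ⟨r, hr⟩ := Finite.surjective_of_injective gi ⟨_, conj_mem_of_mem_normalizer (nR ha) mR⟩
  refine ⟨r, RQ r.2, mul_right_cancel (b := (a * a)⁻¹) (Eq.trans ?_ (congrArg Subtype.val hr).symm)⟩
  change _ = a * (x * a * x⁻¹ * a⁻¹) * a⁻¹
  group

theorem FS.pa (h : FS p q D F) (hF : IsMulCommutative (commutator F)) {X A : Subgroup G} (hs : Group.IsSolvable X)
    (hX : gen D X = X) (hA : A ∈ D) (hAX : A ≤ X) : ⁅X, X⁆ ⊓ 𝐂(A) = ⊥ := by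
  obtain ⟨h1, -, h3⟩ := h.loc12 hs hX hA hAX
  have : Fact q.Prime := ⟨h.qprime⟩
  have : Fact p.Prime := ⟨h.prime⟩
  have hd : A ⊓ ⁅X, X⁆ = ⊥ := IsPGroup.disjoint_of_ne p q h.ne _ _ (h.toPts.isPGroup hA) h1 |>.eq_bot
  obtain ⟨a, ha, a1, za⟩ := h.toPts.exists_gen hA
  have h2 : zpowers (a * a) = A := h.toPts.eq_zpowers hA (mul_mem ha ha) fun e => by
    have o : orderOf a = p := by rw [← Nat.card_zpowers, za, h.card A hA]
    rw [← pow_two, ← orderOf_dvd_iff_pow_eq_one, o] at e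
    exact h.odd ((Nat.prime_dvd_prime_iff_eq h.prime Nat.prime_two).1 e)
  have st := fun x => A3.step h hF hs hA hAX hd ha h2 (x := x)
  have nQ : a ∈ _ := le_normalizer_comm X (hAX ha)
  set Q := ⁅X, X⁆ with hQ
  let S : Set G := {b | ∃ x ∈ Q, b = x * a * x⁻¹}
  have s1 : ∀ b ∈ S, ∀ c ∈ S, b * c ∈ (fun b => b * b) '' S := by
    rintro _ ⟨y, hy, rfl⟩ _ ⟨x, hx, rfl⟩
    obtain ⟨r, hr, e⟩ := st (y⁻¹ * x) (mul_mem (inv_mem hy) hx)
    refine ⟨_, ⟨y * r, mul_mem hy hr, rfl⟩, ?_⟩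
    calc _ = y * (r * (a * a) * r⁻¹) * y⁻¹ := by group
      _ = _ := by rw [← e]; group
  have aS : a ∈ S := ⟨1, one_mem _, by group⟩
  have s2 : (fun b => a * b) '' S = (fun b => b * b) '' S :=
    Set.eq_of_subset_of_ncard_le (by rintro _ ⟨b, hb, rfl⟩; exact s1 a aS b hb)
      (by rw [Set.ncard_image_of_injective _ (mul_right_injective a)]; exact Set.ncard_image_le)
  have s3 : ∀ b ∈ S, a * b * a⁻¹ ∈ S := by
    rintro _ ⟨x, hx, rfl⟩
    exact ⟨_, conj_mem_of_mem_normalizer nQ hx, by group⟩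
  let M : Submonoid G :=
    { carrier := {l | a * l ∈ S}
      one_mem' := by simpa using aS
      mul_mem' := fun {l m} hl hm => by
        obtain ⟨d, hd, e⟩ := s2.ge (s1 _ (s3 _ hl) _ hm)
        have : a * (l * m) = d := mul_left_cancel (a := a) (Eq.trans (by group) e.symm)
        exact show a * (l * m) ∈ S from this ▸ hd }
  let Λ : Subgroup G :=
    { M with
      inv_mem' := fun {l} hl => (Submonoid.powers_le.2 hl : Submonoid.powers l ≤ M)
        (mem_powers_iff_mem_zpowers.2 (inv_mem (mem_zpowers l))) }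
  have nΛ : a ∈ 𝐍(Λ) := mem_normalizer_of_cj_le fun x hx => by
    obtain ⟨l, hl, rfl⟩ := mem_cj'.1 hx
    have := s3 _ hl
    rwa [mul_assoc, mul_assoc, ← mul_assoc a l] at this
  have hΛ : Q ≤ Λ := by
    rw [← h3, Subgroup.commutator_comm, ← za, ← zpowers_inv, zpowers_eq_closure]
    refine H2.commutator_closure_le ?_ ?_
    · rintro _ rfl
      exact inv_mem nΛ
    · rintro _ rfl z hz
      exact ⟨z, hz, by group⟩
  let f : Q → Q := fun x => ⟨a⁻¹ * x * a⁻¹⁻¹ * (x : G)⁻¹,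
    mul_mem (conj_mem_of_mem_normalizer (inv_mem nQ) x.2) (inv_mem x.2)⟩
  have fs : Function.Surjective f := fun u => by
    obtain ⟨x, hx, e⟩ := hΛ u.2
    refine ⟨⟨x, hx⟩, Subtype.ext (mul_left_cancel (a := a) (Eq.trans ?_ e.symm))⟩
    change a * (a⁻¹ * x * a⁻¹⁻¹ * x⁻¹) = _
    group
  refine eq_bot_iff.2 fun c hc => congrArg Subtype.val
    (Finite.injective_iff_surjective.2 fs (a₁ := ⟨c, hc.1⟩) (a₂ := 1) (Subtype.ext ?_))
  change a⁻¹ * c * a⁻¹⁻¹ * c⁻¹ = a⁻¹ * 1 * a⁻¹⁻¹ * 1⁻¹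
  rw [inv_inv, mul_assoc _ c, ← hc.2 a ha]
  group

end H83F
end

section
set_option autoImplicit false
set_option linter.unusedSectionVars false

namespace H83F

open Subgroup H69
open scoped commutatorElement

variable {G : Type*} [Group G] [Finite G] {D : Set (Subgroup G)} {p q : ℕ} {F : Type*} [Group F] [Finite F]

theorem A4.comm_of {J : Subgroup G} (e : J ≃* F) (h : ∀ x ∈ ⁅J, J⁆, ∀ y ∈ ⁅J, J⁆, x * y = y * x) :
    IsMulCommutative (commutator F) := by
  have m : ∀ x ∈ commutator F, (e.symm x : G) ∈ ⁅J, J⁆ := fun x hx => by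
    rw [← Subgroup.map_subtype_commutator]
    exact mem_map_of_mem J.subtype (commutator_mono le_top le_top
      (Subgroup.map_commutator ⊤ ⊤ e.symm.toMonoidHom ▸ mem_map_of_mem e.symm.toMonoidHom hx))
  exact ⟨⟨fun x y => Subtype.ext (e.symm.injective (Subtype.ext (by
    simpa using h _ (m _ x.2) _ (m _ y.2))))⟩⟩

theorem A4.ab (h : FS p q D F) (hF : ¬ IsMulCommutative (commutator F)) {A V : Subgroup G} (hA : A ∈ D)
    (hV : V ≤ 𝐂(V)) (hn : A ≤ 𝐍(V)) (hd : V ⊓ A = ⊥) : A ≤ 𝐂(V) := fun a ha x hx => by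
  by_cases e : A = A ^ᶜ x
  · have : x * a * x⁻¹ * a⁻¹ ∈ V ⊓ A := ⟨by
      rw [mul_assoc, mul_assoc, ← mul_assoc a]
      exact mul_mem hx (conj_mem_of_mem_normalizer (hn ha) (inv_mem hx)),
      A.mul_mem (e.ge (cj_mem x ha)) (inv_mem ha)⟩
    rwa [hd, mem_bot, mul_inv_eq_one, mul_inv_eq_iff_eq_mul] at this
  obtain ⟨f⟩ := h.iso A hA _ (h.inv A hA x) e
  have h1 : A ⊔ A ^ᶜ x ≤ V ⊔ A := sup_le le_sup_right (cj_le_of_mem le_sup_right (mem_sup_left hx))
  have h2 : ⁅V ⊔ A, V ⊔ A⁆ ≤ V := commutator_sup_le_left le_normalizer hn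
    (commutator_le_left_of_le_normalizer (sup_le le_normalizer hn))
    (commutator_sup_le_right le_normalizer hn (commutator_le_right_of_le_normalizer hn)
      ((commutator_eq_bot_of_le_centralizer (h.toPts.le_cent_self hA)).trans_le bot_le))
  have h3 := (commutator_mono h1 h1).trans h2
  exact absurd (A4.comm_of f fun u hu v hv => hV (h3 hv) u (h3 hu)) hF

theorem FS.pb (h : FS p q D F) (hF : ¬ IsMulCommutative (commutator F)) {X A : Subgroup G}
    (hs : Group.IsSolvable X) (hX : gen D X = X) (hA : A ∈ D) (hAX : A ≤ X) :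
    ⁅X, X⁆ ⊓ 𝐂(A) ≤ 𝐂(X) ∧ ⁅⁅X, X⁆, ⁅X, X⁆⁆ ≤ 𝐂(X) ∧ ⁅X, X⁆ ⊓ 𝐂(⁅X, X⁆) ≤ 𝐂(X) := by
  obtain ⟨h1, h2, h3⟩ := h.loc12 hs hX hA hAX
  have nQ := le_normalizer_comm X
  have QX := comm_le X
  set Q := ⁅X, X⁆ with hQ
  have : Fact q.Prime := ⟨h.qprime⟩
  have : Fact p.Prime := ⟨h.prime⟩
  have hd : Q ⊓ A = ⊥ := IsPGroup.disjoint_of_ne q p h.ne.symm _ _ h1 (h.toPts.isPGroup hA) |>.eq_bot
  have key : ∀ V ≤ Q, V ≤ 𝐂(V) → X ≤ 𝐍(V) → V ≤ 𝐂(X) := fun V hV c n => by
    have a := A4.ab h hF hA c (hAX.trans n) (le_bot_iff.1 ((inf_le_inf_right A hV).trans hd.le))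
    exact le_centralizer_iff.1 (h2.trans (sup_le
      (h3 ▸ H2.commutator_le_centralizer_of_normalizes (QX.trans n) a) a))
  have k2 : ⁅Q, Q⁆ ≤ 𝐂(X) := by
    by_contra n
    obtain ⟨L, ⟨l1, l2, l3⟩, hmin⟩ := (wellFounded_lt (α := Subgroup G)).has_min
      {L | L ≤ ⁅Q, Q⁆ ∧ X ≤ 𝐍(L) ∧ ¬ L ≤ 𝐂(X)} ⟨_, le_rfl, H69.le_normalizer_commutator nQ nQ, n⟩
    have lQ := l1.trans (comm_le Q)
    have lt := commutator_lt_of_isPGroup (h1.to_le lQ) h1 (QX.trans l2) fun e => l3 (e ▸ bot_le)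
    have c : ⁅L, Q⁆ ≤ 𝐂(X) := by
      by_contra c
      exact hmin _ ⟨lt.le.trans l1, H69.le_normalizer_commutator l2 nQ, c⟩ lt
    have c1 : ⁅⁅L, Q⁆, Q⁆ = ⊥ := commutator_eq_bot_of_le_centralizer (c.trans (centralizer_anti QX))
    have c2 : ⁅⁅Q, Q⁆, L⁆ = ⊥ :=
      commutator_commutator_eq_bot_of_rotate (by rwa [Subgroup.commutator_comm Q L]) c1
    exact l3 (key L lQ (l1.trans (commutator_eq_bot_iff_le_centralizer.1 c2)) l2)
  refine ⟨?_, k2, key _ inf_le_left (inf_le_right.trans (centralizer_anti inf_le_left))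
    (le_normalizer_inf nQ (le_normalizer_centralizer nQ))⟩
  have a : A ≤ 𝐂(Q ⊓ 𝐂(A)) := le_centralizer_iff.1 inf_le_right
  have c : ⁅⁅A, Q⁆, Q ⊓ 𝐂(A)⁆ = ⊥ := commutator_commutator_eq_bot_of_rotate
    (commutator_eq_bot_of_le_centralizer
      ((commutator_mono le_rfl inf_le_left).trans (k2.trans (centralizer_anti hAX))))
    (by rw [commutator_eq_bot_of_le_centralizer inf_le_right, commutator_bot_left])
  rw [Subgroup.commutator_comm A, h3] at c
  exact le_centralizer_iff.1 (h2.trans (sup_le (commutator_eq_bot_iff_le_centralizer.1 c) a))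

end H83F
end
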