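import Mathlib
import Cfsg.Agent.Base
import Cfsg.Agent.Lib.EFS.Gen1

section
set_option autoImplicit false
set_option linter.unusedSectionVars false

namespace H83F

open Subgroup H69
open scoped commutatorElement

variable {G : Type*} [Group G] [Finite G] {D : Set (Subgroup G)} {p q : ℕ}

theorem A6_comap_ne {Γ : Type*} [Group Γ] (f : G →* Γ) (hf : Function.Surjective f) {X : Subgroup Γ}
    (hX : X ≠ ⊤) : X.comap f ≠ ⊤ := by
  intro e
  apply hX
  rw [← map_comap_eq_self_of_surjective hf X, e, ← MonoidHom.range_eq_map,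
    MonoidHom.range_eq_top.2 hf]

theorem A6_map_cent {Γ : Type*} [Group Γ] (f : G →* Γ) (X : Subgroup G) :
    (𝐂(X)).map f ≤ 𝐂(X.map f) := by
  rintro _ ⟨w, hw, rfl⟩
  rw [mem_centralizer_iff_commute]
  rintro _ ⟨x, hx, rfl⟩
  rw [← map_mul, ← map_mul, mem_centralizer_iff_commute.1 hw x hx]

theorem A6_map_inf (h : Geo p q D) {Γ : Type*} [Group Γ] [Finite Γ] (f : G →* Γ) {X A : Subgroup G}
    (hX : Sub D X) (hA : A ∈ D) (hAX : A ≤ X) :
    (W X).map f = ⁅X.map f, X.map f⁆ ⊓ 𝐂(A.map f) := by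
  rw [← h.W_eq hX hA hAX, H2.map_inf_centralizer_of_coprime (hAX.trans (le_normalizer_comm X))
    (h.coprime hX hA le_rfl) (Or.inl (h.toPts.isSolvable hA)), map_commutator]

theorem A6_solv {Γ : Type*} [Group Γ] (f : G →* Γ) (hk : Group.IsSolvable f.ker)
    (h : Group.IsSolvable ((⊤ : Subgroup G).map f)) : Group.IsSolvable G := by
  have := H1.isSolvable_of_map_of_ker f h (by rwa [inf_top_eq])
  exact Group.isSolvable_of_surjective (f := (⊤ : Subgroup G).subtype) fun g => ⟨⟨g, mem_top g⟩, rfl⟩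

theorem Geo.lift_sub (h : Geo p q D) {Γ : Type*} [Group Γ] [Finite Γ] (f : G →* Γ) (hf : Function.Surjective f)
    {X : Subgroup Γ} (hX : Sub ((Subgroup.map f) '' D) X) :
    Sub D (gen D (X.comap f)) ∧ (gen D (X.comap f)).map f = X ∧ (W (gen D (X.comap f))).map f = W X := by
  obtain ⟨_, ⟨A, hA, rfl⟩, hAX⟩ := hX.pt
  have hA' : A ≤ X.comap f := map_le_iff_le_comap.1 hAX
  have s1 : Sub D (gen D (X.comap f)) := sub_gen (A6_comap_ne f hf hX.ne_top) hA hA'
  have s2 : (gen D (X.comap f)).map f = X := by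
    apply le_antisymm (map_le_iff_le_comap.2 (gen_le _))
    apply hX.le_of_pts
    rintro _ ⟨B, hB, rfl⟩ hBX
    exact map_mono (le_gen hB (map_le_iff_le_comap.1 hBX))
  refine ⟨s1, s2, le_antisymm (le_inf ?_ ?_) ?_⟩
  · refine (map_mono (W_le_comm _)).trans ?_
    rw [map_commutator, s2]
  · refine (map_mono (W_le_cent _)).trans ((A6_map_cent f _).trans ?_)
    rw [s2]
  · rw [A6_map_inf h f s1 hA (le_gen hA hA'), s2]
    exact inf_le_inf_left _ (centralizer_anti hAX)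

theorem Geo.quot (h : Geo p q D) (hG : ¬ Group.IsSolvable G) {Γ : Type*} [Group Γ] [Finite Γ] (f : G →* Γ)
    (hf : Function.Surjective f) (hk : Group.IsSolvable f.ker) : Geo p q ((Subgroup.map f) '' D) := by
  have ht : (⊤ : Subgroup G).map f = ⊤ := by
    rw [← MonoidHom.range_eq_map, MonoidHom.range_eq_top.2 hf]
  refine ⟨⟨h.prime, h.odd, ?_, ?_⟩, h.qprime, h.ne, ?_, h.nonempty.image _, ?_, ?_⟩
  · rintro _ ⟨A, hA, rfl⟩
    have hb : A ⊓ f.ker = ⊥ := by
      by_contra hne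
      have e := h.eq_top_of_normal hA (h.toPts.le_of_inf_ne_bot hA hne)
      apply hG
      rw [e] at hk
      exact Group.isSolvable_of_surjective (f := (⊤ : Subgroup G).subtype)
        fun g => ⟨⟨g, mem_top g⟩, rfl⟩
    rw [← h.card A hA]
    symm
    apply Nat.card_congr (Equiv.ofBijective (f.subgroupMap A) ⟨?_, f.subgroupMap_surjective A⟩)
    rw [injective_iff_map_eq_one]
    intro a ha
    have : (a : G) ∈ A ⊓ f.ker := ⟨a.2, congrArg Subtype.val ha⟩
    rw [hb] at this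
    exact Subtype.ext this
  · rintro _ ⟨A, hA, rfl⟩ g
    obtain ⟨g, rfl⟩ := hf g
    exact ⟨_, h.inv A hA g, map_cj f A g⟩
  · rw [eq_top_iff, ← ht, ← h.top, map_le_iff_le_comap]
    exact sSup_le fun A hA => map_le_iff_le_comap.1 (le_sSup ⟨A, hA, rfl⟩)
  · rintro _ ⟨A, hA, rfl⟩ _ ⟨B, hB, rfl⟩ e
    apply hG (A6_solv f hk _)
    rw [ht, ← e, ← Subgroup.map_sup]
    exact H1.isSolvable_map (h.solv (h.sub_pair hA hB)) f
  · intro X hX
    obtain ⟨s1, s2, s3⟩ := h.lift_sub f hf hX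
    have hL := h.loc _ s1
    refine ⟨?_, ?_, ?_⟩
    · have := hL.L1.map f
      rwa [map_commutator, s2] at this
    · rintro _ ⟨A, hA, rfl⟩ hAX
      have := map_mono (f := f) (hL.L2 A hA (le_gen hA (map_le_iff_le_comap.1 hAX)))
      rwa [Subgroup.map_sup, map_commutator, s2] at this
    · rintro _ ⟨A, hA, rfl⟩ hAX
      have := A6_map_inf h f s1 hA (le_gen hA (map_le_iff_le_comap.1 hAX))
      rw [s2, s3] at this
      rw [← this]
      exact W_le_cent X

theorem Geo.quot_noW (h : Geo p q D) {Γ : Type*} [Group Γ] [Finite Γ] (f : G →* Γ) (hf : Function.Surjective f)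
    (hW : NoW D) : NoW ((Subgroup.map f) '' D) := by
  intro X hX
  obtain ⟨s1, -, s3⟩ := h.lift_sub f hf hX
  rw [← s3, hW _ s1, Subgroup.map_bot]

theorem Geo.quot_cl2 (h : Geo p q D) {Γ : Type*} [Group Γ] [Finite Γ] (f : G →* Γ) (hf : Function.Surjective f)
    (hW : Cl2 D) : Cl2 ((Subgroup.map f) '' D) := by
  intro X hX
  obtain ⟨s1, s2, -⟩ := h.lift_sub f hf hX
  have := (map_mono (f := f) (hW _ s1)).trans (A6_map_cent f _)
  rwa [map_commutator, map_commutator, s2] at this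

theorem Geo.quot_fix (h : Geo p q D) {Γ : Type*} [Group Γ] [Finite Γ] (f : G →* Γ) (hf : Function.Surjective f)
    (hZ : center Γ = ⊥) (hW : Fix D f.ker) : Fix ((Subgroup.map f) '' D) ⊥ := by
  rintro X Y _ w hX hY ⟨A, hA, rfl⟩ hw h1 hn hAY hAw
  obtain ⟨s1, -, s3⟩ := h.lift_sub f hf hX
  obtain ⟨t1, t2, -⟩ := h.lift_sub f hf hY
  have hw' := hw
  rw [← s3] at hw'
  obtain ⟨w, hw1, rfl⟩ := hw'
  have hA' : A ≤ (centralizer {f w}).comap f := map_le_iff_le_comap.1 hAw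
  have u1 : Sub D (gen D ((centralizer {f w}).comap f)) :=
    sub_gen (A6_comap_ne f hf (centralizer_ne_top (hZ ▸ h1))) hA hA'
  have hw2 := h.W_mono s1 u1 (gen_mono (comap_mono (le_cent_of_mem_W hw))) hw1
  have hn' : w ∈ 𝐍(gen D (Y.comap f)) := by
    apply h.toPts.normalizer_le_gen
    rw [← cj_eq_self_iff, comap_cj, cj_eq_of_mem_normalizer hn]
  have := hW _ _ A w s1 t1 hA hw1 h1 hn' (le_gen hA (map_le_iff_le_comap.1 hAY))
    ((le_gen hA hA').trans (le_cent_of_mem_W hw2))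
  rw [← t2]
  rintro _ ⟨y, hy, rfl⟩
  rw [mem_centralizer_singleton_iff, ← map_mul, ← map_mul, mem_centralizer_singleton_iff.1 (this hy)]

theorem rad_quot : Rad (G ⧸ Cfsg.solvableRadical G) := by
  intro N hN hs
  rw [eq_bot_iff, ← H1.solvableRadical_quotient]
  exact H1.le_solvableRadical hs

end H83F
end

section
set_option autoImplicit false
set_option linter.unusedSectionVars false

namespace H83F

open Subgroup H69
open scoped commutatorElement

variable {G : Type*} [Group G] [Finite G] {D : Set (Subgroup G)} {p q : ℕ}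

theorem HA_norm_relCent {X H N : Subgroup G} (hH : X ≤ 𝐍(H)) (hN : X ≤ 𝐍(N)) :
    X ≤ 𝐍(H2.relCentralizer H N) := by
  apply le_normalizer_of_cj_le
  intro g hg
  have h0 := H2.le_relCentralizer_iff.1 (le_refl (H2.relCentralizer H N))
  rw [H2.le_relCentralizer_iff]
  constructor
  · have := cj_mono g h0.1
    rwa [cj_normalizer, cj_eq_of_mem_normalizer (hN hg)] at this
  · have := cj_mono g h0.2
    rwa [cj_commutator, cj_eq_of_mem_normalizer (hN hg), cj_eq_of_mem_normalizer (hH hg)] at this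

/-- a `q`-group acting on a section `R / T` of a `q`-group has a nontrivial fixed point -/
theorem HA_exists_fixed [Fact q.Prime] {T R P : Subgroup G} (hR : IsPGroup q R) (hP : IsPGroup q P)
    (hTR : T < R) (hPT : P ≤ 𝐍(T)) (hPR : P ≤ 𝐍(R)) : ∃ L, T < L ∧ L ≤ R ∧ ⁅L, P⁆ ≤ T := by
  obtain ⟨L, ⟨h1, h2, h3⟩, hmin⟩ :=
    exists_minimal_of_wellFoundedLT (fun L : Subgroup G => T < L ∧ L ≤ R ∧ P ≤ 𝐍(L)) ⟨R, hTR, le_rfl, hPR⟩
  refine ⟨L, h1, h2, ?_⟩
  by_contra hne
  have hle : T ⊔ ⁅L, P⁆ ≤ L := sup_le h1.le (commutator_le_left_of_le_normalizer h3)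
  have hlt : T < T ⊔ ⁅L, P⁆ := lt_of_le_of_ne le_sup_left fun e => hne (e ▸ le_sup_right)
  have := hmin (y := T ⊔ ⁅L, P⁆) ⟨hlt, hle.trans h2,
    H69.le_normalizer_sup hPT (H69.le_normalizer_commutator h3 le_normalizer)⟩ hle
  exact h1.not_ge (le_of_le_sup_commutator (hR.to_le h2) hP h3 h1.le hPT this)

theorem HC.exists_J (h : Geo p q D) (h2 : Cl2 D) {Y A : Subgroup G} {z : G} (c : HC D Y A z) : ∃ J, HJ D Y z J := by
  have : Fact q.Prime := ⟨h.qprime⟩
  have hIY : II D Y z ≤ Y := II_le Y z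
  have hTQ : T1 D Y z ≤ ⁅Y, Y⁆ := sup_le (commutator_mono hIY hIY) (W_le_comm Y)
  have hQT : ⁅Y, Y⁆ ≤ 𝐍(T1 D Y z) := by
    apply le_normalizer_of_commutator_le_right
    refine (commutator_mono le_rfl hTQ).trans (le_trans ?_ le_sup_right)
    exact le_inf (comm_le _) (h2 Y c.sub)
  have hPY : PP D Y z ≤ 𝐍(Y) := inf_le_right
  have hPI : PP D Y z ≤ 𝐍(II D Y z) := le_normalizer_of_le_centralizer (PP_le_cent Y z)
  have hPT : PP D Y z ≤ 𝐍(T1 D Y z) :=
    H69.le_normalizer_sup (hPI.trans (normalizer_le_comm _)) (hPY.trans (normalizer_le_W _))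
  have hAT : A ≤ 𝐍(T1 D Y z) :=
    H69.le_normalizer_sup (c.AI.trans (le_normalizer_comm _))
      (c.AY.trans (le_normalizer.trans (normalizer_le_W _)))
  have hAP : A ≤ 𝐍(PP D Y z) :=
    le_normalizer_of_le_centralizer (c.AI.trans (le_centralizer_iff.1 (PP_le_cent Y z)))
  have hlt : T1 D Y z < ⁅Y, Y⁆ := by
    refine lt_of_le_of_ne hTQ fun e => c.nle ?_
    have : Y ≤ II D Y z := h.le_of_Q_le c.sub c.pt c.AY c.AI
      (e.ge.trans (sup_le_sup_right (comm_le _) _)) hIY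
    exact this.trans ((gen_le _).trans inf_le_right)
  have hP : IsPGroup q (PP D Y z) := (h.isPGroup_W c.subX).to_le inf_le_left
  obtain ⟨L, hL1, hL2, hL3⟩ := HA_exists_fixed (h.loc Y c.sub).L1 hP hlt hPT
    (hPY.trans (normalizer_le_comm _))
  set J0 := ⁅Y, Y⁆ ⊓ H2.relCentralizer (PP D Y z) (T1 D Y z) with hJ0
  have hLJ : L ≤ J0 := le_inf hL2 (H2.le_relCentralizer_iff.2 ⟨hL2.trans hQT, hL3⟩)
  have hAJ : A ≤ 𝐍(J0) :=
    H69.le_normalizer_inf (c.AY.trans (le_normalizer_comm _)) (HA_norm_relCent hAP hAT)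
  have hJY : J0 ⊔ A ≤ Y := sup_le (inf_le_left.trans (comm_le _)) c.AY
  have hJY' : gen D (J0 ⊔ A) ≤ Y := (gen_le _).trans hJY
  have hQJ : ⁅gen D (J0 ⊔ A), gen D (J0 ⊔ A)⁆ ≤ J0 := by
    have e : (J0 ⊔ A) ⊓ ⁅Y, Y⁆ = J0 := by
      rw [dedekind_left hAJ inf_le_left, h.inf_Q_eq_bot c.sub c.pt, sup_bot_eq]
    exact (le_inf ((comm_le _).trans (gen_le _)) (commutator_mono hJY' hJY')).trans e.le
  refine ⟨gen D (J0 ⊔ A), sub_gen (fun e => c.sub.ne_top (top_le_iff.1 (e.ge.trans hJY))) c.pt le_sup_right,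
    c.subI.le_gen ?_, hJY', fun hle => hL1.not_ge (hLJ.trans ?_), ?_⟩
  · rw [← h.eq_Q_sup c.subI c.pt c.AI]
    exact sup_le_sup_right (le_sup_left.trans (hL1.le.trans hLJ)) _
  · refine (h.split (T := J0) c.sub c.pt c.AY inf_le_left hAJ).ge.trans ?_
    exact sup_le ((h.comm_le_Q (T := J0) c.sub c.pt inf_le_left hAJ le_sup_right le_sup_left).trans hle)
      (inf_le_right.trans le_sup_right)
  · exact (commutator_mono hQJ le_rfl).trans (H2.le_relCentralizer_iff.1 (inf_le_right : J0 ≤ _)).2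

end H83F
end

section
set_option autoImplicit false
set_option linter.unusedSectionVars false

namespace H83F

open Subgroup H69
open scoped commutatorElement

variable {G : Type*} [Group G] [Finite G] {D : Set (Subgroup G)} {p q : ℕ}

/-- the elements of `Y'` centralizing `z` modulo `W Y` -/
def HB_U (Y : Subgroup G) (z : G) : Subgroup G where
  carrier := {x | x ∈ ⁅Y, Y⁆ ∧ ⁅x, z⁆ ∈ W Y}
  one_mem' := ⟨one_mem _, by simp⟩
  mul_mem' := fun {a b} ha hb => ⟨mul_mem ha.1 hb.1, by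
    rw [commutatorElement_mul_left_eq_conj_mul]
    exact mul_mem (conj_mem_of_mem_normalizer
      (normalizer_le_W Y (le_normalizer (comm_le Y ha.1))) hb.2) ha.2⟩
  inv_mem' := fun {a} ha => ⟨inv_mem ha.1, by
    rw [commutatorElement_inv_left]
    refine conj_mem_of_mem_normalizer' (normalizer_le_W Y (le_normalizer (comm_le Y ha.1))) ?_
    rw [← commutatorElement_inv]
    exact inv_mem ha.2⟩

theorem HC.mem_T1 (h : Geo p q D) (h2 : Cl2 D) {Y A : Subgroup G} {z : G} (c : HC D Y A z) {u : G}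
    (hu : u ∈ ⁅Y, Y⁆) (hz : ⁅u, z⁆ ∈ W Y) : u ∈ T1 D Y z := by
  have hU : HB_U Y z ≤ ⁅Y, Y⁆ := fun _ hx => hx.1
  have az : ∀ a ∈ A, a * z = z * a := fun a ha => mem_centralizer_singleton_iff.1 (c.Az ha)
  have hn : A ≤ 𝐍(HB_U Y z) := le_normalizer_of_cj_le fun a ha => by
    rintro _ ⟨x, hx, rfl⟩
    refine ⟨conj_mem_of_mem_normalizer (le_normalizer_comm Y (c.AY ha)) hx.1, ?_⟩
    have e : ⁅a * x * a⁻¹, z⁆ = a * ⁅x, z⁆ * a⁻¹ := by
      conv_lhs => rw [show z = a * z * a⁻¹ by rw [az a ha, mul_inv_cancel_right]]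
      simp only [commutatorElement_def]; group
    change ⁅a * x * a⁻¹, z⁆ ∈ W Y
    rw [e]
    exact conj_mem_of_mem_normalizer (normalizer_le_W Y (le_normalizer (c.AY ha))) hx.2
  have hT : ⁅HB_U Y z, A⁆ ≤ HB_U Y z := commutator_le_left_of_le_normalizer hn
  have hC : ⁅HB_U Y z, A⁆ ≤ centralizer {z} := by
    rw [commutator_le]
    intro x hx a ha
    rw [mem_centralizer_singleton_iff]
    have hxY := comm_le Y hx.1
    have k := mem_centralizer_iff_commute.1 (W_le_cent Y hx.2) (x * a * x⁻¹)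
      (mul_mem (mul_mem hxY (c.AY ha)) (inv_mem hxY))
    have e1 : z * a * z⁻¹ = a := by rw [← az a ha, mul_inv_cancel_right]
    have e2 : z * x * z⁻¹ = ⁅x, z⁆⁻¹ * x := by simp only [commutatorElement_def]; group
    symm
    rw [← mul_inv_eq_iff_eq_mul]
    calc _ = (z * x * z⁻¹) * (z * a * z⁻¹) * (z * x * z⁻¹)⁻¹ * (z * a * z⁻¹)⁻¹ := by
          simp only [commutatorElement_def]; group
      _ = ⁅x, z⁆⁻¹ * (x * a * x⁻¹ * ⁅x, z⁆) * a⁻¹ := by rw [e1, e2]; group
      _ = _ := by rw [k, commutatorElement_def x a]; group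
  have e := H2.commutator_commutator_eq hn (h.coprime c.sub c.pt hU)
  have hI : ⁅HB_U Y z, A⁆ ≤ ⁅II D Y z, II D Y z⁆ := by
    rw [← e]
    exact h.comm_le_Q c.sub c.pt (hT.trans hU) (normalizer_commutator_ge_right _ _)
      (le_inf c.AY c.Az) (le_inf ((hT.trans hU).trans (comm_le Y)) hC)
  have := h.split c.sub c.pt c.AY hU hn
  have hu' : u ∈ HB_U Y z := ⟨hu, hz⟩
  rw [← this] at hu'
  exact sup_le_sup hI inf_le_right hu'

end H83F
end

section
set_option autoImplicit false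
set_option linter.unusedSectionVars false
set_option linter.unusedVariables false

namespace H83F

open Subgroup H69
open scoped commutatorElement

variable {G : Type*} [Group G] [Finite G] {D : Set (Subgroup G)} {p q : ℕ}

theorem hc_nZ (L : Subgroup G) : L ≤ 𝐍(center G) :=
  le_top.trans (normal_iff_top_le_normalizer.1 inferInstance)

theorem hc_bot {A B N : Subgroup G} (h : A ≤ 𝐂(B)) : ⁅A, B⁆ ≤ N :=
  (commutator_eq_bot_of_le_centralizer h).le.trans bot_le

theorem hc_bot' {A B N : Subgroup G} (h : B ≤ 𝐂(A)) : ⁅A, B⁆ ≤ N := by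
  rw [commutator_comm]
  exact hc_bot h

theorem hc_W {Y X : Subgroup G} (h : X ≤ Y) : W Y ≤ 𝐂(X) := (W_le_cent Y).trans (centralizer_anti h)

theorem hc_QQ (h2 : Cl2 D) {X : Subgroup G} (hX : Sub D X) : ⁅⁅X, X⁆, ⁅X, X⁆⁆ ≤ W X :=
  le_inf (comm_le _) (h2 X hX)

theorem hc_sup {X A B N : Subgroup G} (hA : A ≤ N) (hB : B ≤ N) (h1 : ⁅X, A⁆ ≤ N) (h2 : ⁅X, B⁆ ≤ N) :
    ⁅X, A ⊔ B⁆ ≤ N :=
  commutator_sup_le_right (le_normalizer_of_le hA) (le_normalizer_of_le hB) h1 h2

theorem HC.comm_P (h : Geo p q D) (h2 : Cl2 D) {Y A J : Subgroup G} {z : G} (c : HC D Y A z) (j : HJ D Y z J) :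
    ⁅⁅⁅J, J⁆, ⁅II D Y z, II D Y z⁆⁆, PP D Y z⁆ ≤ center G := by
  refine three_subgroups (hc_nZ _) (hc_nZ _) (hc_nZ _) ?_ ?_
  · refine (commutator_mono (hc_bot' (N := ⊥) ((PP_le_cent Y z).trans (centralizer_anti (comm_le _)))) le_rfl).trans ?_
    rw [commutator_bot_left]
    exact bot_le
  · rw [commutator_comm (PP D Y z)]
    exact (commutator_mono j.comm le_rfl).trans (commutator_sup_le_left (hc_nZ _) (hc_nZ _)
      ((hc_QQ h2 c.subI).trans c.WI) (hc_bot (hc_W ((comm_le _).trans (II_le Y z)))))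

theorem HC.comm_le (h : Geo p q D) (h2 : Cl2 D) {Y A J : Subgroup G} {z : G} (c : HC D Y A z) (j : HJ D Y z J) :
    ⁅⁅J, J⁆, ⁅II D Y z, II D Y z⁆⁆ ≤ W Y ⊓ 𝐍(Xc D z) := by
  refine le_inf ((commutator_mono (commutator_mono j.JY j.JY)
    (commutator_mono (II_le Y z) (II_le Y z))).trans (hc_QQ h2 c.sub)) fun x hx => ?_
  have k := mem_center_iff.1 (c.comm_P h h2 j (commutator_mem_commutator hx c.zP))
  refine mem_normalizer_of_cj_le ?_
  rw [h.toPts.cj_Xc]
  refine gen_mono fun g hg => ?_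
  rw [mem_centralizer_singleton_iff] at hg ⊢
  rw [show x * z * x⁻¹ = ⁅x, z⁆ * z by rw [commutatorElement_def, inv_mul_cancel_right], ← mul_assoc, k g,
    mul_assoc, mul_assoc] at hg
  exact mul_left_cancel hg

theorem HC.le_norm_T0 (h : Geo p q D) (h2 : Cl2 D) {Y A J : Subgroup G} {z : G} (c : HC D Y A z)
    (j : HJ D Y z J) : J ≤ 𝐍(T0 D Y z) := by
  have e1 := c.comm_P h h2 j
  have e2 := c.comm_le h h2 j
  have AJ := c.AI.trans j.IJ
  have PI := PP_le_cent (D := D) Y z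
  have AI : A ≤ 𝐍(⁅II D Y z, II D Y z⁆) := c.AI.trans (le_normalizer_comm _)
  have QY : ⁅J, J⁆ ≤ Y := (H83F.comm_le J).trans j.JY
  have zc : ∀ X : Subgroup G, center G ≤ 𝐂(X) := fun X => centralizer_top.ge.trans (centralizer_anti le_top)
  have LT : ⁅II D Y z, II D Y z⁆ ⊔ ⁅⁅J, J⁆, ⁅II D Y z, II D Y z⁆⁆ ⊔ center G ≤ T0 D Y z :=
    sup_le (sup_le (le_sup_of_le_left (le_sup_of_le_left le_sup_left))
      (le_sup_of_le_left (le_sup_of_le_left (le_sup_of_le_right e2)))) le_sup_right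
  have k : ⁅⁅J, J⁆, PP D Y z⁆ ≤ ⁅II D Y z, II D Y z⁆ ⊔ ⁅⁅J, J⁆, ⁅II D Y z, II D Y z⁆⁆ ⊔ center G := by
    conv_lhs => rw [← h.comm_Q j.sub c.pt AJ, commutator_comm _ A]
    refine three_subgroups (le_normalizer_sup (le_normalizer_sup AI
      (le_normalizer_commutator (AJ.trans (le_normalizer_comm J)) AI)) (hc_nZ _))
      (le_normalizer_of_commutator_le_right (hc_sup le_sup_left le_sup_right (hc_sup
        (le_sup_of_le_left le_sup_left) (le_sup_of_le_left le_sup_right) (le_sup_of_le_left le_sup_right)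
        (hc_bot' (e2.trans (inf_le_left.trans (hc_W QY))))) (hc_bot' (zc _))))
      (le_normalizer_of_commutator_le_right (hc_sup le_sup_left le_sup_right (hc_sup
        (le_sup_of_le_left le_sup_left) (le_sup_of_le_left le_sup_right)
        (hc_bot (PI.trans (centralizer_anti (H83F.comm_le _))))
        (le_sup_of_le_right ((commutator_comm _ _).le.trans e1))) (hc_bot' (zc _)))) ?_ ?_
    · refine le_sup_of_le_left (le_sup_of_le_left ((commutator_mono j.comm le_rfl).trans ?_))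
      exact commutator_sup_le_left le_normalizer
        (le_normalizer_of_le_centralizer (hc_W ((H83F.comm_le _).trans (II_le Y z))))
        (commutator_le_left_of_le_normalizer AI) (hc_bot (hc_W c.AY))
    · refine (commutator_mono (hc_bot (N := ⊥) (PI.trans (centralizer_anti c.AI))) le_rfl).trans ?_
      rw [commutator_bot_left]
      exact bot_le
  rw [← h.eq_Q_sup j.sub c.pt AJ]
  refine sup_le (le_normalizer_of_commutator_le_right (hc_sup le_sup_left le_sup_right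
    (hc_sup (le_sup_of_le_left le_sup_left) (le_sup_of_le_left le_sup_right)
      (hc_sup (le_sup_of_le_left (le_sup_of_le_left le_sup_left))
        (le_sup_of_le_left (le_sup_of_le_left le_sup_right)) ((le_sup_of_le_left le_sup_right).trans LT)
        (hc_bot' (inf_le_left.trans (hc_W QY)))) (k.trans LT)) (hc_bot' (zc _)))) ?_
  exact le_normalizer_sup (le_normalizer_sup (le_normalizer_sup AI (le_normalizer_of_le_centralizer
    (le_centralizer_iff.1 (inf_le_left.trans (hc_W c.AY))))) (le_normalizer_of_le_centralizer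
    (le_centralizer_iff.1 (PI.trans (centralizer_anti c.AI))))) (hc_nZ _)

end H83F
end

section
set_option autoImplicit false
set_option linter.unusedSectionVars false

namespace H83F

open Subgroup H69
open scoped commutatorElement

variable {G : Type*} [Group G] [Finite G] {D : Set (Subgroup G)} {p q : ℕ}

theorem HC.half (h : Geo p q D) (h2 : Cl2 D) (hz : ZQ D) {Y A : Subgroup G} {z : G} (c : HC D Y A z) :
    ∃ J, Sub D J ∧ J ≤ Y ∧ ¬ J ≤ Xc D z ∧ J ≤ 𝐍(T0 D Y z) ∧ ∃ w ∈ W J, w ∉ center G ∧ w ∈ 𝐍(Xc D z) := by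
  obtain ⟨J, j⟩ := c.exists_J h h2
  refine ⟨J, j.sub, j.JY, fun hJ => j.nle ?_, c.le_norm_T0 h h2 j, ?_⟩
  · have : J ≤ II D Y z := j.sub.le_gen (le_inf j.JY (hJ.trans (Xc_le z)))
    exact (commutator_mono this this).trans le_sup_left
  have hIJ : ⁅II D Y z, II D Y z⁆ ≤ ⁅J, J⁆ := commutator_mono j.IJ j.IJ
  by_cases hc : ⁅⁅J, J⁆, ⁅II D Y z, II D Y z⁆⁆ ≤ center G
  · exfalso
    refine j.nle fun u hu => c.mem_T1 h h2 (commutator_mono j.JY j.JY hu) ?_
    have hWC : W Y ≤ 𝐂(⁅II D Y z, II D Y z⁆) :=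
      (W_le_cent Y).trans (centralizer_anti ((H83F.comm_le _).trans (II_le Y z)))
    have hm : ⁅u, z⁆ ∈ ⁅⁅J, J⁆, PP D Y z⁆ := commutator_mem_commutator hu c.zP
    obtain ⟨x, hx, ω, hω, e⟩ := (mem_sup_of_le_normalizer_left
      (le_normalizer_of_le_centralizer hWC)).1 (j.comm hm)
    have k : ⁅⁅⁅J, J⁆, PP D Y z⁆, ⁅II D Y z, II D Y z⁆⁆ = ⊥ := by
      refine commutator_commutator_eq_bot_of_rotate ?_ ?_
      · rw [commutator_eq_bot_of_le_centralizer
          ((PP_le_cent Y z).trans (centralizer_anti (H83F.comm_le _))), commutator_bot_left]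
      · rw [commutator_comm ⁅II D Y z, II D Y z⁆]
        exact commutator_eq_bot_of_le_centralizer (hc.trans (center_le_centralizer _))
    have k1 := le_centralizer_of_commutator_eq_bot k hm
    rw [e, mul_mem_cancel_right (hWC hω)] at k1
    have k2 : x ∈ 𝐂(A) := centralizer_anti c.AI (hz _ c.subI ⟨hx, k1⟩)
    have k3 : x ∈ W Y := by
      rw [← h.W_eq c.sub c.pt c.AY]
      exact ⟨commutator_mono (II_le Y z) (II_le Y z) hx, k2⟩
    rw [e]
    exact mul_mem k3 hω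
  · obtain ⟨w, hw, hw'⟩ := SetLike.not_le_iff_exists.1 hc
    have k := commutator_mono le_rfl hIJ hw
    exact ⟨w, ⟨H83F.comm_le _ k, h2 J j.sub k⟩, hw', (c.comm_le h h2 j hw).2⟩

end H83F
end

section
set_option autoImplicit false
set_option linter.unusedSectionVars false

namespace H83F

open Subgroup H69
open scoped commutatorElement

variable {G : Type*} [Group G] [Finite G] {D : Set (Subgroup G)} {p q : ℕ}

theorem hf_II (c w : G) : II D (Xc D c) w = II D (Xc D w) c := by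
  have k : ∀ c w : G, II D (Xc D c) w ≤ II D (Xc D w) c := fun c w => gen_le_iff.2 fun B hB h =>
    le_gen hB (le_inf (le_Xc hB (h.trans inf_le_right)) ((h.trans inf_le_left).trans (Xc_le c)))
  exact le_antisymm (k c w) (k w c)

theorem hf_T0 (c w : G) : T0 D (Xc D c) w = T0 D (Xc D w) c := by
  unfold T0 PP
  rw [hf_II c w, sup_right_comm _ (W (Xc D c) ⊓ _)]

theorem hf_solv {T : Subgroup G} (h : ⁅T, T⁆ ≤ center G) : Group.IsSolvable T := by
  refine ⟨⟨2, (map_eq_bot_iff_of_injective _ T.subtype_injective).1 ?_⟩⟩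
  rw [derivedSeries_succ, derivedSeries_one, commutator_def, map_commutator, map_commutator,
    ← MonoidHom.range_eq_map, range_subtype]
  exact commutator_eq_bot_of_le_centralizer (h.trans (centralizer_top.ge.trans (centralizer_anti le_top)))

theorem hf_comm (h : Geo p q D) (h2 : Cl2 D) {B A : Subgroup G} {w : G} (c : HC D B A w) (hB : Blk D B)
    (hB' : Blk D (Xc D w)) : ⁅T0 D B w, T0 D B w⁆ ≤ center G := by
  have nZ : ∀ L : Subgroup G, L ≤ 𝐍(center G) := fun L =>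
    le_top.trans (normal_iff_top_le_normalizer.1 inferInstance)
  have s : ∀ {M N X : Subgroup G}, ⁅M, X⁆ ≤ center G → ⁅N, X⁆ ≤ center G → ⁅M ⊔ N, X⁆ ≤ center G :=
    commutator_sup_le_left (nZ _) (nZ _)
  have s' : ∀ {M N X : Subgroup G}, ⁅X, M⁆ ≤ center G → ⁅X, N⁆ ≤ center G → ⁅X, M ⊔ N⁆ ≤ center G :=
    commutator_sup_le_right (nZ _) (nZ _)
  have sw : ∀ {M N : Subgroup G}, ⁅M, N⁆ ≤ center G → ⁅N, M⁆ ≤ center G := fun e =>
    (commutator_comm _ _).le.trans e
  have zr : ∀ {X : Subgroup G}, ⁅X, center G⁆ ≤ center G := @fun X =>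
    commutator_le_right_of_le_normalizer (nZ X)
  have b : ∀ {X Y M : Subgroup G}, Y ≤ X → ⁅W X ⊓ M, Y⁆ ≤ center G := @fun _ _ _ e =>
    (commutator_eq_bot_of_le_centralizer
      (inf_le_left.trans ((W_le_cent _).trans (centralizer_anti e)))).le.trans bot_le
  have h11 : ⁅⁅II D B w, II D B w⁆, ⁅II D B w, II D B w⁆⁆ ≤ center G :=
    (le_inf (comm_le _) (h2 _ c.subI)).trans c.WI
  have h21 := b (M := 𝐍(Xc D w)) ((comm_le _).trans (II_le (D := D) B w))
  have h31 := b (M := 𝐍(B)) ((comm_le _).trans (II_le_Xc (D := D) B w))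
  have h23 : ⁅W B ⊓ 𝐍(Xc D w), W (Xc D w) ⊓ 𝐍(B)⁆ ≤ center G := fun x hx => by
    by_contra k
    have e1 := h.Xc_eq hB (commutator_le_left_of_le_normalizer (normalizer_le_W B)
      (commutator_mono inf_le_left inf_le_right hx)) k
    have e2 := h.Xc_eq hB' (commutator_le_right_of_le_normalizer (normalizer_le_W _)
      (commutator_mono inf_le_right inf_le_left hx)) k
    exact c.nle ((e1.symm.trans e2).le.trans (Xc_le w))
  exact s (s (s (s' (s' (s' h11 (sw h21)) (sw h31)) zr)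
    (s' (s' (s' h21 (b (inf_le_left.trans (W_le _)))) h23) zr))
    (s' (s' (s' h31 (sw h23)) (b (inf_le_left.trans (W_le _)))) zr)) (sw zr)

theorem Geo.fixG (h : Geo p q D) (h2 : Cl2 D) (hz : ZQ D) : Fix D (Cfsg.solvableRadical G) := by
  intro X Y A w hX hY hA hw wR wN AY Aw
  have wz : w ∉ center G := fun e =>
    wR (H1.le_solvableRadical (H2.isSolvable_of_isMulCommutative inferInstance) e)
  obtain ⟨hB2, -, wW⟩ := h.blk_Xc hX hw wz
  have hc : ∀ Y, Sub D Y → A ≤ Y → w ∈ 𝐍(Y) → ¬ Y ≤ centralizer {w} → HC D Y A w := fun Y hY AY wN n =>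
    ⟨hY, wW, wz, hA, AY, Aw, wN, n, fun z hz => by
      by_contra k
      have sI : Sub D (II D Y w) :=
        sub_gen (fun e => hY.ne_top (top_le_iff.1 (e.ge.trans inf_le_left))) hA (le_inf AY Aw)
      exact n (((h.le_Xc sI hz hY (II_le Y w)).trans (hB2.max _ (h.blk_Xc sI hz k).1.sub
        (h.le_Xc sI hz hB2.sub (II_le_Xc Y w))).le).trans (Xc_le w))⟩
  by_contra n
  obtain ⟨J0, sJ0, JY, -, -, c1, hc1, k, -⟩ := (hc Y hY AY wN n).half h h2 hz
  replace hc1 := h.W_mono sJ0 hY JY hc1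
  obtain ⟨hB1, YB, -⟩ := h.blk_Xc hY hc1 k
  have wB : w ∈ 𝐍(Xc D c1) := mem_normalizer_of_cj_le (h.le_Xc hY hc1 (h.toPts.sub_cj hB1.sub w)
    ((cj_eq_of_mem_normalizer wN).ge.trans (cj_mono w YB)))
  have c := hc _ hB1.sub (AY.trans YB) wB fun e => n (YB.trans e)
  generalize Xc D c1 = B at hB1 c
  obtain ⟨J, sJ, JB, -, JN, z, hzJ, zc, zN⟩ := c.half h h2 hz
  have zW := h.W_mono sJ hB1.sub JB hzJ
  obtain rfl := h.Xc_eq hB1 zW zc
  have c' : HC D (Xc D w) A z := ⟨hB2.sub, zW, zc, hA, H83F.le_Xc hA Aw, c.AY.trans (Xc_le z), zN,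
    fun e => c.nle ((hB2.max _ hB1.sub (hB2.sub.le_gen e)).le.trans (Xc_le w)), hf_II z w ▸ c.WI⟩
  obtain ⟨J', sJ', -, nJ, JN', -⟩ := c'.half h h2 hz
  rw [← hf_T0] at JN'
  by_cases e : 𝐍(T0 D (Xc D z) w) = ⊤
  · have := normal_iff_top_le_normalizer.2 e.ge
    exact wR (H1.le_solvableRadical (hf_solv (hf_comm h h2 c hB1 hB2))
      (mem_sup_left (mem_sup_right c.zP)))
  · obtain ⟨B, hB, BJ⟩ := sJ.pt
    exact nJ ((sJ'.le_gen JN').trans (h.le_Xc sJ hzJ (sub_gen e hB (BJ.trans JN)) (sJ.le_gen JN)))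

end H83F
end
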